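import Cfsg.Agent.Fi22U62Iso.Check
import Cfsg.Agent.CosetCert.Fi22Order.Main
import Cfsg.Agent.S0280
import Cfsg.Prelude.Def_SporadicB

/-!
# The centraliser of a transposition in the presented group Fi22 is `2·U6(2)`

The 693 points of the small suborbit of the subgroup are the isotropic points of a unitary
space; this gives a homomorphism onto `PSU(6, 2)`, whose kernel has order two by counting, and
contains a nontrivial product of squares, so the extension does not split.
-/

set_option autoImplicit false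
set_option maxRecDepth 100000
set_option maxHeartbeats 2000000

namespace Cfsg.Agent.Fi22U62Iso

open Cfsg.Agent.CosetCert Cfsg.Agent.Classical Cfsg.Agent.Classical.Herm
open Cfsg.Agent.CosetCert.Fi22U62
open Cfsg.Agent.ThreeTrans.SU32
open scoped Matrix

theorem frob_invol : IsInvol (F4.frob : K →+* K) :=
  ⟨fun h => absurd (DFunLike.congr_fun h (F4.w : K)) (by decide), by decide⟩

theorem frob_fix : Nat.card (fixField (F4.frob : K →+* K)) = 2 := by
  obtain ⟨σ, hσq, -, hq, -⟩ := exists_powHom (F := K) (q := 2) (F4.card_eq.trans (by norm_num))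
  obtain rfl : σ = F4.frob := RingHom.ext fun x => (hσq x).trans (frob_sq x).symm
  exact hq

/-- The rows of a matrix give an element of `SU(6, 2)`. -/
theorem genMat_mem (k : Fin 9) :
    (⟨genMat k, genMat_det k⟩ : Matrix.SpecialLinearGroup (Fin 6) K) ∈ Cfsg.SU 6 K 2 := by
  refine (mem_SU_iff frob_sq _).2 ((preserves_iff_cols (genMat k)).2 fun i j => ?_)
  have h := genMat_form k i j
  simp only [hermB_apply, Matrix.mulVec_single_one]
  exact h

/-- The element of `SU(6, 2)` of a generator. -/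
def genEl (k : Fin 9) : Cfsg.SU 6 K 2 := ⟨_, genMat_mem k⟩

/-- The relators of Fi22. -/
abbrev rels : Set (FreeGroup Cfsg.Spor.Fi22.Gen) :=
  Cfsg.Spor.coxRelators Cfsg.Spor.Fi22.edges ∪ {r | r ∈ Cfsg.Spor.Fi22.extra}

/-- The subgroup in question. -/
abbrev H : Subgroup (PresentedGroup rels) := Data.sub rels subGens

/-- The `k`th generator of the subgroup. -/
def hEl (k : Fin 9) : H :=
  ⟨PresentedGroup.mk rels (subGens.getD k 1), Subgroup.mem_map_of_mem _ (Subgroup.subset_closure (by
    show subGens.getD (k : ℕ) 1 ∈ subGens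
    fin_cases k <;> simp [subGens]))⟩

theorem genWord_eq (k : Fin 9) :
    genWord k = (subGens.getD k 1).toWord.map (Data.code data.iv enc) := by
  have hlen : subGens.length = 9 := rfl
  rw [genWord, spells.drop_eq, List.getD_eq_getElem _ _ (by rw [List.length_map, hlen]; exact k.2),
    List.getElem_map, List.getD_eq_getElem]

theorem closure_hEl : Subgroup.closure (Set.range hEl) = ⊤ := by
  apply Subgroup.map_injective (H.subtype_injective)
  rw [MonoidHom.map_closure, ← MonoidHom.range_eq_map, Subgroup.range_subtype]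
  refine Eq.trans ?_ (MonoidHom.map_closure (PresentedGroup.mk rels) {s | s ∈ subGens}).symm
  congr 1
  ext g
  constructor
  · rintro ⟨_, ⟨k, rfl⟩, rfl⟩
    refine ⟨subGens.getD k 1, ?_, rfl⟩
    show subGens.getD (k : ℕ) 1 ∈ subGens
    fin_cases k <;> simp [subGens]
  · rintro ⟨w, hw, rfl⟩
    obtain ⟨k, hk, rfl⟩ := List.getElem_of_mem (show w ∈ subGens from hw)
    have hk9 : k < 9 := hk
    exact ⟨hEl ⟨k, hk9⟩, ⟨_, rfl⟩, congrArg (PresentedGroup.mk rels) (List.getD_eq_getElem subGens 1 hk)⟩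

section

variable (φ : PresentedGroup rels →* Equiv.Perm (Fin data.n))

/-- The matrix carries the points as the element moves the suborbit. -/
def Compat (p : H × Cfsg.SU 6 K 2) : Prop :=
  ∀ c : Fin data.n, inB c = true → inB (φ p.1 c) = true ∧
    ∃ s : K, s ≠ 0 ∧ (p.2.1 : Matrix (Fin 6) (Fin 6) K) *ᵥ vecAt c = s • vecAt (φ p.1 c)

theorem compat_one : Compat φ 1 := fun c hc => by
  refine ⟨by simpa using hc, 1, one_ne_zero, ?_⟩
  simp

theorem compat_mul {p q : H × Cfsg.SU 6 K 2} (hp : Compat φ p) (hq : Compat φ q) :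
    Compat φ (p * q) := fun c hc => by
  obtain ⟨h1, s, hs, e1⟩ := hq c hc
  obtain ⟨h2, t, ht, e2⟩ := hp _ h1
  refine ⟨by simpa using h2, s * t, mul_ne_zero hs ht, ?_⟩
  simp only [Prod.fst_mul, Prod.snd_mul, Subgroup.coe_mul, Matrix.SpecialLinearGroup.coe_mul,
    map_mul, Equiv.Perm.mul_apply, ← Matrix.mulVec_mulVec, e1, Matrix.mulVec_smul, e2, smul_smul]

theorem compat_inv {p : H × Cfsg.SU 6 K 2} (hp : Compat φ p) : Compat φ p⁻¹ := fun c hc => by
  let B : Set (Fin data.n) := {x | inB x = true}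
  have hmaps : Set.MapsTo (φ p.1) B B := fun x hx => (hp x hx).1
  have himg : φ p.1 '' B = B := Set.eq_of_subset_of_ncard_le hmaps.image_subset
    (Set.ncard_image_of_injective _ (Equiv.injective _)).ge (Set.toFinite _)
  obtain ⟨d, hd, hdc⟩ := himg.symm.subset (show c ∈ B from hc)
  obtain ⟨-, s, hs, e⟩ := hp d hd
  have hinv : φ ((p⁻¹).1 : PresentedGroup rels) c = d := by
    rw [← hdc, Prod.fst_inv, Subgroup.coe_inv, map_inv, ← Equiv.Perm.mul_apply, inv_mul_cancel,
      Equiv.Perm.one_apply]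
  rw [hinv]
  refine ⟨hd, s⁻¹, inv_ne_zero hs, ?_⟩
  rw [hdc] at e
  have h1 : ((p⁻¹).2.1 : Matrix (Fin 6) (Fin 6) K) *ᵥ ((p.2.1 : Matrix (Fin 6) (Fin 6) K) *ᵥ vecAt d)
      = vecAt d := by
    rw [Matrix.mulVec_mulVec, ← Matrix.SpecialLinearGroup.coe_mul, ← Subgroup.coe_mul,
      Prod.snd_inv, inv_mul_cancel]
    simp
  rw [e, Matrix.mulVec_smul] at h1
  rw [← h1, smul_smul, inv_mul_cancel₀ hs, one_smul]

/-- The pairs generated by the generators with their matrices. -/
def pairs : Subgroup (H × Cfsg.SU 6 K 2) :=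
  Subgroup.closure (Set.range fun k => (hEl k, genEl k))

variable (hfwd : ∀ (l : List (Cfsg.Spor.Fi22.Gen × Bool)) (c : Fin data.n),
  (((φ (PresentedGroup.mk rels (FreeGroup.mk l)))⁻¹ c : Fin data.n) : Nat) =
    data.fwd (l.map (Data.code data.iv enc)) c)

include hfwd in
theorem hEl_inv_apply (k : Fin 9) (c : Fin data.n) :
    (((φ (hEl k))⁻¹ c : Fin data.n) : Nat) = data.fwd (genWord k) c := by
  rw [genWord_eq k, ← hfwd, FreeGroup.mk_toWord]
  rfl

include hfwd in
theorem compat_gen (k : Fin 9) : Compat φ (hEl k, genEl k) := by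
  let B : Set (Fin data.n) := {x | inB x = true}
  have key : ∀ d : Fin data.n, inB d = true → inB ((φ (hEl k))⁻¹ d : Fin data.n) = true ∧
      ∃ s : K, s ≠ 0 ∧ genMat k *ᵥ vecAt ((φ (hEl k))⁻¹ d : Fin data.n) = s • vecAt d := by
    intro d hd
    have h := (allFrom_iff _ _ _).1 (okPoint_all k) (d : ℕ) (Nat.zero_le _)
      (by rw [Nat.zero_add]; exact d.2)
    rw [hEl_inv_apply φ hfwd k d]
    simp only [okPoint, hd, Bool.not_true, Bool.false_or, Bool.and_eq_true, decide_eq_true_eq] at h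
    obtain ⟨h1, s, hs, h2⟩ := h
    exact ⟨h1, s, hs, funext fun i => h2 i⟩
  have hmaps : Set.MapsTo (⇑(φ (hEl k))⁻¹) B B := fun x hx => (key x hx).1
  have himg : ⇑(φ (hEl k))⁻¹ '' B = B := Set.eq_of_subset_of_ncard_le hmaps.image_subset
    (Set.ncard_image_of_injective _ (Equiv.injective _)).ge (Set.toFinite _)
  intro c hc
  obtain ⟨d, hd, hdc⟩ := himg.symm.subset (show c ∈ B from hc)
  have hφ : φ (hEl k) c = d := (Equiv.Perm.inv_eq_iff_eq.1 hdc).symm
  obtain ⟨-, s, hs, e⟩ := key d hd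
  rw [hdc] at e
  show inB (φ (hEl k) c) = true ∧ _
  rw [hφ]
  exact ⟨hd, s, hs, e⟩

include hfwd in
theorem compat_pairs {p : H × Cfsg.SU 6 K 2} (hp : p ∈ pairs) : Compat φ p := by
  induction hp using Subgroup.closure_induction with
  | mem x hx => obtain ⟨k, rfl⟩ := hx; exact compat_gen φ hfwd k
  | one => exact compat_one φ
  | mul x y _ _ hx hy => exact compat_mul φ hx hy
  | inv x _ hx => exact compat_inv φ hx

theorem fst_pairs_surjective :
    Function.Surjective ((MonoidHom.fst H (Cfsg.SU 6 K 2)).comp pairs.subtype) := by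
  rw [← MonoidHom.range_eq_top, MonoidHom.range_comp, Subgroup.range_subtype, pairs,
    MonoidHom.map_closure, eq_top_iff, ← closure_hEl, ← Set.range_comp]
  exact le_rfl

end

theorem codeOf_vecOf (v : Fin 6 → K) : codeOf v < 4096 ∧ vecOf (codeOf v) = v := by
  have h : v = ![v 0, v 1, v 2, v 3, v 4, v 5] := by funext i; fin_cases i <;> rfl
  rw [h]
  exact code_roundtrip _ _ _ _ _ _

theorem isotropic_point {v : Fin 6 → K} (hv : hermB 6 F4.frob v v = 0) (hv0 : v ≠ 0) :
    ∃ c : Fin data.n, inB c = true ∧ ∃ s : K, s ≠ 0 ∧ v = s • vecAt c := by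
  obtain ⟨hlt, he⟩ := codeOf_vecOf v
  have h := (allFrom_iff _ _ _).1 okCode_all (codeOf v) (Nat.zero_le _)
    (by rw [Nat.zero_add]; exact hlt)
  simp only [okCode, decide_eq_true_eq, he] at h
  rcases h with h | h | ⟨hB, hn, s, hs⟩
  · exact absurd h hv0
  · exact absurd hv h
  · refine ⟨⟨_, hn⟩, hB, s, ?_, funext hs⟩
    rintro rfl
    exact hv0 (funext fun i => by simpa using hs i)

theorem norm_one (s : K) (hs : s ≠ 0) : F4.frob s * s = 1 := by revert s; decide

theorem scalar_of_points (A : Cfsg.SU 6 K 2)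
    (h : ∀ c : Fin data.n, inB c = true →
      ∃ s : K, s ≠ 0 ∧ (A.1 : Matrix (Fin 6) (Fin 6) K) *ᵥ vecAt c = s • vecAt c) :
    A ∈ Subgroup.center (Cfsg.SU 6 K 2) := by
  have hB := hermB_isHerm frob_invol 6
  set e := suEquiv 6 (σ := F4.frob) frob_sq with he
  have hfix : ∀ p : Iso (hermB 6 (F4.frob : K →+* K)), e A • p = p := by
    intro p
    obtain ⟨u, hu0, hu, rfl⟩ := exists_pt p
    obtain ⟨c, hc, t, ht, rfl⟩ := isotropic_point hu hu0
    obtain ⟨s, hs, e1⟩ := h c hc
    rw [smul_pt, pt_eq_iff]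
    refine ⟨s, ?_⟩
    rw [suEquiv_apply, Matrix.mulVec_smul, e1, smul_comm]
  obtain ⟨a, ha⟩ := scalar_of_fix_iso hB (by rw [Module.finrank_fin_fun]; norm_num) hfix
  have hc := scalar_mem_center hB ha
  rw [Subgroup.mem_center_iff] at hc ⊢
  exact fun k => e.injective (by rw [map_mul, map_mul, hc])

theorem transvection_conj (B T A : Cfsg.SU 6 K 2) {v : Fin 6 → K} {u : Fin 6 → K} {s : K}
    (hs : s ≠ 0) (hBv : (B.1 : Matrix (Fin 6) (Fin 6) K) *ᵥ v = s • u)
    (hT : (T.1 : Matrix (Fin 6) (Fin 6) K) = Cfsg.unitaryTransvection 6 2 v 1)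
    (hA : (A.1 : Matrix (Fin 6) (Fin 6) K) = Cfsg.unitaryTransvection 6 2 u 1) :
    A = B * T * B⁻¹ := by
  rw [eq_mul_inv_iff_mul_eq]
  refine Subtype.ext (Subtype.ext (Matrix.ext_of_mulVec_single fun i => ?_))
  simp only [Subgroup.coe_mul, Matrix.SpecialLinearGroup.coe_mul, ← Matrix.mulVec_mulVec, hA, hT,
    unitaryTransvection_mulVec (σ := F4.frob) frob_sq, one_mul, Matrix.mulVec_add,
    Matrix.mulVec_smul, hBv, smul_smul]
  have h1 := (mem_SU_iff frob_sq B.1).1 B.2 v (Pi.single i 1)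
  rw [hBv, map_smulₛₗ, LinearMap.smul_apply, smul_eq_mul] at h1
  rw [← h1, mul_assoc, mul_comm (hermB 6 F4.frob u _) s, ← mul_assoc, norm_one s hs, one_mul]

theorem unitaryTransvection_smul (u : Fin 6 → K) {s : K} (hs : s ≠ 0) :
    Cfsg.unitaryTransvection 6 2 (s • u) 1 = Cfsg.unitaryTransvection 6 2 u 1 := by
  refine Matrix.ext_of_mulVec_single fun i => ?_
  simp only [unitaryTransvection_mulVec (σ := F4.frob) frob_sq, one_mul, map_smulₛₗ,
    LinearMap.smul_apply, smul_eq_mul, smul_smul]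
  rw [mul_assoc, mul_comm (hermB 6 F4.frob u _) s, ← mul_assoc, norm_one s hs, one_mul]

theorem card_psu : Nat.card (Cfsg.PSU 6 K 2) = 9196830720 := by
  have h := Cfsg.Agent.S0280.result (F := K) (q := 2) (F4.card_eq.trans (by norm_num)) 6 (by norm_num)
  norm_num [Finset.prod_range_succ, Nat.even_iff] at h
  omega

theorem card_H : Nat.card H = 18393661440 := by
  have h := H.card_mul_index
  have hi : H.index = 3510 := index_val
  have hG : Nat.card (PresentedGroup rels) = 64561751654400 := Fi22Order.order_and_simple.2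
  rw [hi, hG] at h
  omega

theorem code_flatMap (l : List (Fin 9)) :
    (l.flatMap fun k : Fin 9 => (subGens.getD (k : ℕ) 1).toWord).map (Data.code data.iv enc) =
      l.flatMap fun k : Fin 9 => genWord k := by
  induction l with
  | nil => rfl
  | cons k t ih => rw [List.flatMap_cons, List.flatMap_cons, List.map_append, ih, ← genWord_eq]

theorem mk_flatMap (l : List (Fin 9)) :
    PresentedGroup.mk rels (FreeGroup.mk (l.flatMap fun k : Fin 9 => (subGens.getD (k : ℕ) 1).toWord)) =
      ((l.map hEl).prod : H) := by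
  induction l with
  | nil => simp [← FreeGroup.one_eq_mk]
  | cons k t ih =>
    rw [List.flatMap_cons, ← FreeGroup.mul_mk, FreeGroup.mk_toWord, map_mul, ih, List.map_cons,
      List.prod_cons, Subgroup.coe_mul]
    rfl

/-- The product of squares. -/
def sqEl : H := (sqWords.map fun x => (x.map hEl).prod * (x.map hEl).prod).prod

theorem sqEl_eq : sqEl = ((sqWords.flatMap fun x => x ++ x).map hEl).prod := by
  rw [sqEl]
  generalize sqWords = l
  induction l with
  | nil => rfl
  | cons x t ih => simp [ih, mul_assoc]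

theorem sqEl_apply (φ : PresentedGroup rels →* Equiv.Perm (Fin data.n))
    (hfwd : ∀ (l : List (Cfsg.Spor.Fi22.Gen × Bool)) (c : Fin data.n),
      (((φ (PresentedGroup.mk rels (FreeGroup.mk l)))⁻¹ c : Fin data.n) : Nat) =
        data.fwd (l.map (Data.code data.iv enc)) c) (c : Fin data.n) :
    (((φ sqEl)⁻¹ c : Fin data.n) : Nat) = data.fwd sqWord c := by
  rw [sqEl_eq, ← mk_flatMap, hfwd, code_flatMap, List.flatMap_assoc]
  rfl

theorem exists_hom : ∃ β : H →* Cfsg.PSU 6 K 2, Function.Surjective β ∧ sqEl ∈ β.ker ∧ sqEl ≠ 1 ∧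
    ∀ k, β (hEl k) = QuotientGroup.mk' (Subgroup.center (Cfsg.SU 6 K 2)) (genEl k) := by
  obtain ⟨φ, π, hπ, hfwd⟩ := Data.enumeration valid spells
  let p1 : pairs →* H := (MonoidHom.fst H (Cfsg.SU 6 K 2)).comp pairs.subtype
  let p2 : pairs →* Cfsg.PSU 6 K 2 :=
    (QuotientGroup.mk' (Subgroup.center (Cfsg.SU 6 K 2))).comp
      ((MonoidHom.snd H (Cfsg.SU 6 K 2)).comp pairs.subtype)
  have htriv : ∀ x : pairs, (∀ c : Fin data.n, inB c = true → φ (x.1.1 : PresentedGroup rels) c = c) →
      p2 x = 1 := by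
    intro x hx
    refine (QuotientGroup.eq_one_iff _).2 (scalar_of_points _ fun c hc => ?_)
    obtain ⟨-, s, hs, e⟩ := compat_pairs φ hfwd x.2 c hc
    rw [hx c hc] at e
    exact ⟨s, hs, e⟩
  have hker : p1.ker ≤ p2.ker := by
    intro x hx
    refine MonoidHom.mem_ker.2 (htriv x fun c _ => ?_)
    have h1 : x.1.1 = 1 := MonoidHom.mem_ker.1 hx
    rw [h1]
    simp
  let β : H →* Cfsg.PSU 6 K 2 := p1.liftOfSurjective fst_pairs_surjective ⟨p2, hker⟩
  have hβ : ∀ x, β (p1 x) = p2 x := fun x =>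
    MonoidHom.liftOfRightInverse_comp_apply _ _ _ _ x
  refine ⟨β, ?_, ?_, ?_, fun k => hβ ⟨(hEl k, genEl k), Subgroup.subset_closure ⟨k, rfl⟩⟩⟩
  · -- every transvection is in the image
    rw [← MonoidHom.range_eq_top, eq_top_iff]
    rintro q -
    obtain ⟨A, rfl⟩ := QuotientGroup.mk_surjective q
    suffices h : A ∈ (β.range).comap (QuotientGroup.mk' (Subgroup.center (Cfsg.SU 6 K 2))) from h
    have htop := closure_unitaryTransvection (n := 6) frob_invol frob_sq frob_fix (by norm_num)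
      (by norm_num)
    have hA : A ∈ (⊤ : Subgroup (Cfsg.SU 6 K 2)) := Subgroup.mem_top _
    rw [← htop] at hA
    revert A
    refine fun A hA => (Subgroup.closure_le _).2 ?_ hA
    rintro T ⟨v, c, hv, hT⟩
    show β.range.comap _ |>.carrier T
    obtain ⟨c', hc', he⟩ := transvection_mem_cases frob_invol frob_sq T hv hT
    by_cases hv0 : v = 0
    · have : T = 1 := Subtype.ext (Subtype.ext (by rw [hT, hv0]; simp [Cfsg.unitaryTransvection]))
      rw [this]; exact one_mem _
    by_cases hc0 : c = 0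
    · have : T = 1 := Subtype.ext (Subtype.ext (by rw [hT, hc0]; simp [Cfsg.unitaryTransvection]))
      rw [this]; exact one_mem _
    have hc1 : c = 1 := by
      have h2 : c + F4.frob c = 0 := by
        refine (isometry_transvection_iff frob_invol hv0 hv c).1 fun x y => ?_
        rw [← unitaryTransvection_mulVec frob_sq, ← unitaryTransvection_mulVec frob_sq, ← hT]
        exact (mem_SU_iff frob_sq T.1).1 T.2 x y
      have key : ∀ c : K, c + F4.frob c = 0 → c = 0 ∨ c = 1 := by decide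
      exact (key c h2).resolve_left hc0
    subst hc1
    obtain ⟨d, hd, s, hs, rfl⟩ := isotropic_point hv hv0
    rw [unitaryTransvection_smul _ hs] at hT
    -- move the root of the suborbit to the point of the transvection
    have horb := Data.orbit_eq valid spells φ π hπ hfwd orbSet0 6 (get48 orbStore0) orb0_root orb0_ok
    have hmem : π d ∈ MulAction.orbit H (π ⟨6, orb0_root.1⟩) := horb ▸ ⟨d, hd, rfl⟩
    obtain ⟨g, hg⟩ := hmem
    have hgd : φ (g : PresentedGroup rels) ⟨6, orb0_root.1⟩ = d := π.injective ((hπ _ _).trans hg)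
    obtain ⟨x, hx⟩ := fst_pairs_surjective g
    obtain ⟨-, t, ht, e⟩ := compat_pairs φ hfwd x.2 ⟨6, orb0_root.1⟩ orb0_root.2
    have hxg : x.1.1 = g := hx
    rw [hxg, hgd] at e
    let y : pairs := ⟨(hEl 1, genEl 1), Subgroup.subset_closure ⟨1, rfl⟩⟩
    have hconj := transvection_conj x.1.2 (genEl 1) T ht e genMat_trans hT
    refine ⟨p1 (x * y * x⁻¹), (hβ _).trans ?_⟩
    rw [hconj]
    rfl
  · obtain ⟨x, hx⟩ := fst_pairs_surjective sqEl
    have hx' : p1 x = sqEl := hx
    rw [MonoidHom.mem_ker, ← hx', hβ]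
    refine htriv x fun c hc => ?_
    have h := (allFrom_iff _ _ _).1 sqWord_fix (c : ℕ) (Nat.zero_le _)
      (by rw [Nat.zero_add]; exact c.2)
    simp only [hc, Bool.not_true, Bool.false_or] at h
    have h2 : (φ sqEl)⁻¹ c = c := Fin.ext ((sqEl_apply φ hfwd c).trans (Nat.eq_of_beq_eq_true h))
    rw [show x.1.1 = sqEl from hx]
    exact (Equiv.Perm.inv_eq_iff_eq.1 h2).symm
  · intro h
    have h1 := sqEl_apply φ hfwd ⟨movedPt, sqWord_move.2⟩
    rw [h] at h1
    simp only [Subgroup.coe_one, map_one, inv_one, Equiv.Perm.one_apply] at h1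
    exact sqWord_move.1 h1.symm

theorem nonsplit_double : Cfsg.IsNonsplitDoubleCover H (Cfsg.PSU 6 K 2) := by
  obtain ⟨β, hβ, hz, hz1, -⟩ := exists_hom
  have : Finite H := Nat.finite_of_card_ne_zero (by rw [card_H]; norm_num)
  have hU : IsSimpleGroup (Cfsg.PSU 6 K 2) :=
    isSimpleGroup_psu (F4.card_eq.trans (by norm_num)) 6 (by norm_num) (by norm_num)
  have hk : Nat.card β.ker = 2 := by
    have h := β.ker.card_eq_card_quotient_mul_card_subgroup
    rw [card_H, Nat.card_congr (QuotientGroup.quotientKerEquivOfSurjective β hβ).toEquiv, card_psu] at h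
    omega
  have hcen : β.ker ≤ Subgroup.center H := by
    intro k hk'
    rw [Subgroup.mem_center_iff]
    intro g
    have hgk : g * k * g⁻¹ ∈ β.ker := β.normal_ker.conj_mem k hk' g
    by_cases h1 : k = 1
    · simp [h1]
    have hu : ∀ y : H, y ∈ β.ker → y ≠ 1 → y = k := by
      intro y hy hy1
      obtain ⟨z, -, hz⟩ := (Nat.card_eq_two_iff' (1 : β.ker)).1 hk
      have e1 := hz ⟨y, hy⟩ (fun h => hy1 (congrArg Subtype.val h))
      have e2 := hz ⟨k, hk'⟩ (fun h => h1 (congrArg Subtype.val h))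
      exact congrArg Subtype.val (e1.trans e2.symm)
    have := hu _ hgk (fun h => h1 (by simpa [mul_assoc] using congrArg (g⁻¹ * · * g) h))
    calc g * k = (g * k * g⁻¹) * g := by group
      _ = k * g := by rw [this]
  have hceneq : β.ker = Subgroup.center H := by
    refine le_antisymm hcen fun c hc => MonoidHom.mem_ker.2 ?_
    have h1 : β c ∈ Subgroup.center (Cfsg.PSU 6 K 2) := by
      rw [Subgroup.mem_center_iff]
      intro u
      obtain ⟨g, rfl⟩ := hβ u
      rw [← map_mul, ← map_mul, Subgroup.mem_center_iff.1 hc g]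
    rcases (inferInstance : (Subgroup.center (Cfsg.PSU 6 K 2)).Normal).eq_bot_or_eq_top with h | h
    · rw [h] at h1
      exact Subgroup.mem_bot.1 h1
    · exfalso
      have hcomm : ∀ a b : Cfsg.PSU 6 K 2, a * b = b * a := fun a b =>
        Subgroup.mem_center_iff.1 (h ▸ Subgroup.mem_top b) a
      letI : CommGroup (Cfsg.PSU 6 K 2) := { (inferInstance : Group (Cfsg.PSU 6 K 2)) with mul_comm := hcomm }
      have hp := IsSimpleGroup.prime_card (α := Cfsg.PSU 6 K 2)
      rw [card_psu] at hp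
      exact absurd hp (by norm_num)
  refine ⟨hceneq ▸ hk, ⟨(QuotientGroup.quotientMulEquivOfEq hceneq.symm).trans
    (QuotientGroup.quotientKerEquivOfSurjective β hβ)⟩, fun L hL => hz1 ?_⟩
  have hi : L.index = 2 := by
    rw [hL.index_eq_card, ← hceneq, hk]
  have hzL : sqEl ∈ L := by
    refine list_prod_mem fun y hy => ?_
    obtain ⟨x, -, rfl⟩ := List.mem_map.1 hy
    exact Subgroup.mul_self_mem_of_index_two hi _
  have hboth : sqEl ∈ Subgroup.center H ⊓ L := ⟨hceneq ▸ hz, hzL⟩
  rw [hL.disjoint.eq_bot] at hboth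
  exact Subgroup.mem_bot.1 hboth

end Cfsg.Agent.Fi22U62Iso
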