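import Cfsg.Agent.Fi22U62Iso.Data
import Cfsg.Agent.CosetCert.Fi22U62.Main
import Cfsg.Agent.Classical.UnitaryGroup

/-!
# Kernel checks of the tables
-/

set_option autoImplicit false
set_option maxRecDepth 100000

namespace Cfsg.Agent.Fi22U62Iso

open Cfsg.Agent.CosetCert Cfsg.Agent.Classical
open Cfsg.Agent.ThreeTrans.SU32
open scoped Matrix

/-- Membership of the suborbit. -/
def inB (c : ℕ) : Bool := Fi22U62.orbSet0.testBit c

/-- The word of the generator `k` of the subgroup. -/
noncomputable def genWord (k : ℕ) : List ℕ :=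
  (Fi22U62.data.W.drop Fi22U62.data.nR).getD k []

theorem frob_sq : ∀ x : K, F4.frob x = x ^ 2 := by decide +kernel

theorem genMat_det : ∀ k : Fin 9, (genMat k).det = 1 := by decide +kernel

theorem genMat_form : ∀ k : Fin 9, ∀ i j : Fin 6,
    ∑ l, F4.frob (genMat k l i) * genMat k l j = if i = j then 1 else 0 := by decide +kernel

theorem genMat_trans :
    genMat 1 = Cfsg.unitaryTransvection 6 2 (vecAt 6) 1 := by decide +kernel

/-- The image of a coset under the word of a generator has the predicted vector. -/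
noncomputable def okPoint (k c : ℕ) : Bool :=
  !inB c || (inB (Fi22U62.data.fwd (genWord k) c) && decide (∃ s : K, s ≠ 0 ∧
    ∀ i : Fin 6, (genMat k *ᵥ vecAt (Fi22U62.data.fwd (genWord k) c)) i = s * vecAt c i))

theorem okPoint_all : ∀ k : Fin 9, allFrom (okPoint k) 0 3510 = true := by decide +kernel

/-- The vector with the given code is zero, anisotropic, or a multiple of a point. -/
noncomputable def okCode (m : ℕ) : Bool :=
  decide (vecOf m = 0 ∨ hermB 6 F4.frob (vecOf m) (vecOf m) ≠ 0 ∨
    (inB (isoAt m) = true ∧ isoAt m < 3510 ∧ ∃ s : K, ∀ i : Fin 6, vecOf m i = s * vecAt (isoAt m) i))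

theorem okCode_all : allFrom okCode 0 4096 = true := by decide +kernel

/-- The code of a vector. -/
def codeOf (a : Fin 6 → K) : ℕ :=
  enc4 (a 0) ||| enc4 (a 1) <<< 2 ||| enc4 (a 2) <<< 4 ||| enc4 (a 3) <<< 6 |||
    enc4 (a 4) <<< 8 ||| enc4 (a 5) <<< 10

theorem code_roundtrip : ∀ a b c d e f : K,
    codeOf ![a, b, c, d, e, f] < 4096 ∧ vecOf (codeOf ![a, b, c, d, e, f]) = ![a, b, c, d, e, f] := by
  decide +kernel

/-- The word of the product of squares. -/
noncomputable def sqWord : List ℕ :=
  sqWords.flatMap fun x => (x ++ x).flatMap fun k => genWord k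

theorem sqWord_fix : allFrom (fun c => !inB c || Nat.beq (Fi22U62.data.fwd sqWord c) c) 0 3510 = true := by
  decide +kernel

theorem sqWord_move : Fi22U62.data.fwd sqWord movedPt ≠ movedPt ∧ movedPt < 3510 := by
  decide +kernel

end Cfsg.Agent.Fi22U62Iso
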